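import Cfsg.Agent.H589.BD.Defs
import Cfsg.Agent.H116.RatB0.StB0
import Cfsg.Agent.H686.CharKit
import Cfsg.Agent.H684.CoverCount_m3
import Cfsg.Agent.H596.Degree
import Cfsg.Agent.H611.CoverPrincipal
import Cfsg.Agent.Blocks.Knorr
import Cfsg.Agent.Characters.Linear
import Cfsg.Agent.CharDeep.PowerDegrees
import Cfsg.Agent.S0907
import Cfsg.Agent.Characters.Brauer
import Cfsg.Agent.FastGrp
import Cfsg.Agent.Prune
set_option linter.all false

-- part: H589/BD/Core
section
set_option linter.all false
open scoped Cfsg.Agent.FastGrp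

/-!
# S4932: the relation in the principal block of an almost simple group (helper589)

* `InB0`, `NT`, `Rel`;
* `over_index` : `|A : N|` divides `|Out S|`;
* `nb M N` : the characters of the principal block of `A` that are not trivial on `N`;
* `below`, `above` : they lie over the nontrivial characters of the principal block of `S`;
* `relation` : `D + ∑ χ(1) χ(u) = 0` for `p`-singular `u ∈ N`, with `0 < D ≤ |Out S|`.
-/

set_option autoImplicit false
set_option linter.unusedSectionVars false
set_option linter.style.haveILetI false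

open Cfsg
open scoped ComplexConjugate

namespace Cfsg.Agent.H589.BD

open Cfsg.Agent.H686.CharKit Cfsg.Agent.H684.BlockTools

universe u v w

/-- In the principal `p`-block, for every choice of the maximal ideal. -/
def InB0 (p : ℕ) {G : Type u} [Group G] (χ : IrrCharacter G) : Prop :=
  ∀ M : Ideal AlgInt, IsPModular p M → χ ∈ principalBlock M G

/-- Nontrivial character. -/
def NT {G : Type u} [Group G] (χ : IrrCharacter G) : Prop := ∃ g : G, (χ : G → ℂ) g ≠ 1

/-- `a d = b d'` for divisors `d, d'` of `o`. -/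
def Rel (o a b : ℕ) : Prop := ∃ d d' : ℕ, d ∣ o ∧ d' ∣ o ∧ a * d = b * d'

variable {p : ℕ} [Fact p.Prime]

section basic

variable {G : Type u} [Group G]

theorem InB0.iff [Fintype G] (χ : IrrCharacter G) :
    InB0 p χ ↔ ∑ g : G, Blocks.Blau.regPart p (χ : G → ℂ) g ≠ 0 := by
  obtain ⟨M, hM⟩ := Blocks.Knorr.exists_isPModular p
  exact ⟨fun h => (H893.Sd.mem_iff hM χ).1 (h M hM), fun h M' hM' => (H893.Sd.mem_iff hM' χ).2 h⟩

theorem InB0.of_mem [Finite G] {χ : IrrCharacter G} {M : Ideal AlgInt} (hM : IsPModular p M)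
    (h : χ ∈ principalBlock M G) : InB0 p χ := by
  have := Fintype.ofFinite G
  exact (InB0.iff χ).2 ((H893.Sd.mem_iff hM χ).1 h)

theorem InB0.mem_iff [Finite G] {χ : IrrCharacter G} {M : Ideal AlgInt} (hM : IsPModular p M) :
    χ ∈ principalBlock M G ↔ InB0 p χ := ⟨fun h => InB0.of_mem hM h, fun h => h M hM⟩

/-- The character transported along an isomorphism. -/
def tr {H : Type v} [Group H] (e : G ≃* H) (χ : IrrCharacter H) : IrrCharacter G :=
  ⟨(χ : H → ℂ) ∘ e.toMonoidHom, Characters.Core.isIrr_comp e.toMonoidHom e.surjective χ.2⟩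

theorem tr_apply {H : Type v} [Group H] (e : G ≃* H) (χ : IrrCharacter H) (g : G) :
    (tr e χ : G → ℂ) g = (χ : H → ℂ) (e g) := rfl

theorem charDegree_tr {H : Type v} [Group H] (e : G ≃* H) (χ : IrrCharacter H) :
    charDegree (tr e χ : G → ℂ) = charDegree (χ : H → ℂ) :=
  H596.charDegree_comp e.toMonoidHom χ.2

theorem InB0.tr {H : Type v} [Group H] [Finite G] (e : G ≃* H) {χ : IrrCharacter H} (h : InB0 p χ) :
    InB0 p (tr e χ) := by
  have := Fintype.ofFinite G
  have : Finite H := Finite.of_equiv G e.toEquiv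
  have := Fintype.ofFinite H
  rw [InB0.iff] at h ⊢
  intro h0
  apply h
  rw [← h0]
  refine (Fintype.sum_equiv e.toEquiv _ _ fun g => ?_).symm
  have h1 : orderOf (e g) = orderOf g := orderOf_injective e.toMonoidHom e.injective g
  by_cases hg : p ∣ orderOf g
  · rw [Blocks.Blau.regPart_of_dvd hg]
    exact (Blocks.Blau.regPart_of_dvd (x := e g) (by rw [h1]; exact hg)).symm
  · rw [Blocks.Blau.regPart_of_not_dvd hg]
    exact (Blocks.Blau.regPart_of_not_dvd (x := e g) (by rw [h1]; exact hg)).symm

omit [Fact p.Prime] in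
theorem NT.tr {H : Type v} [Group H] (e : G ≃* H) {χ : IrrCharacter H} (h : NT χ) : NT (tr e χ) := by
  obtain ⟨g, hg⟩ := h
  refine ⟨e.symm g, ?_⟩
  rw [tr_apply, e.apply_symm_apply]
  exact hg

omit [Fact p.Prime] in
theorem NT.ne_triv {χ : IrrCharacter G} (h : NT χ) : χ ≠ triv G := by
  rintro rfl
  obtain ⟨g, hg⟩ := h
  exact hg rfl

omit [Fact p.Prime] in
theorem nt_of_ne_triv {χ : IrrCharacter G} (h : χ ≠ triv G) : NT χ := by
  by_contra hcon
  unfold NT at hcon
  push Not at hcon
  exact h (Subtype.ext (funext hcon))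

omit [Fact p.Prime] in
/-- A nontrivial character of a perfect group is not linear. -/
theorem NT.degree_ne_one (hp : commutator G = ⊤) {χ : IrrCharacter G} (h : NT χ) :
    charDegree (χ : G → ℂ) ≠ 1 := by
  intro h1
  rw [charDegree_eq_one_iff] at h1
  obtain ⟨f, hf⟩ := Characters.Linear.exists_hom_of_isIrrCharacter χ.2 h1
  obtain ⟨g, hg⟩ := h
  apply hg
  have h2 : f g = 1 := by
    have : commutator G ≤ f.ker := by
      rw [commutator_def, Subgroup.commutator_le]
      intro a _ b _
      rw [MonoidHom.mem_ker, map_commutatorElement]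
      exact commutatorElement_eq_one_iff_mul_comm.2 (mul_comm _ _)
    rw [hp] at this
    exact this (Subgroup.mem_top g)
  rw [hf]
  simp [h2]

omit [Fact p.Prime] in
theorem commutator_top [IsSimpleGroup G] (hna : ¬ IsMulCommutative G) : commutator G = ⊤ := by
  rcases (inferInstance : (commutator G).Normal).eq_bot_or_eq_top with h | h
  · refine absurd ?_ hna
    rw [commutator_eq_bot_iff_center_eq_top] at h
    refine ⟨⟨fun a b => ?_⟩⟩
    have h1 : b ∈ Subgroup.center G := h ▸ Subgroup.mem_top b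
    exact Subgroup.mem_center_iff.1 h1 a
  · exact h

end basic

/-- `D + g α = 0` with `α` an algebraic integer: `g ∣ D`. -/
theorem dvd_of_int {D g : ℕ} {α : ℂ} (hα : IsIntegral ℤ α) (h : (D : ℂ) + (g : ℂ) * α = 0) : g ∣ D := by
  rcases Nat.eq_zero_or_pos g with rfl | hg
  · rw [Nat.cast_zero, zero_mul, add_zero] at h
    rw [zero_dvd_iff]
    exact_mod_cast h
  have hg0 : (g : ℂ) ≠ 0 := by exact_mod_cast hg.ne'
  have h1 : α = algebraMap ℚ ℂ (-(D : ℚ) / (g : ℚ)) := by
    have h2 : α = -(D : ℂ) / (g : ℂ) := by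
      field_simp
      linear_combination h
    rw [h2]
    simp
  rw [h1, isIntegral_algebraMap_iff (algebraMap ℚ ℂ).injective] at hα
  obtain ⟨n, hn⟩ := (IsIntegrallyClosed.isIntegral_iff (R := ℤ) (K := ℚ)).1 hα
  have hg' : (g : ℚ) ≠ 0 := by exact_mod_cast hg.ne'
  have h3 : (n : ℚ) * g = -(D : ℚ) := by
    have h4 : (n : ℚ) = -(D : ℚ) / g := by simpa using hn
    rw [h4]
    field_simp
  have h4 : n * (g : ℤ) = -(D : ℤ) := by exact_mod_cast h3
  have h5 : (g : ℤ) ∣ D := ⟨-n, by linear_combination h4⟩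
  exact_mod_cast h5

section ovr

variable {S A : Type u} [Group S] [Finite S] [Group A] [Finite A] {N : Subgroup A} {M : Ideal AlgInt}

omit [Finite A] in
/-- `|A : N|` divides `|Out S|`. -/
theorem over_index (h : Over S N) : N.index ∣ Nat.card (Out S) := by
  obtain ⟨e⟩ := h.iso
  haveI := h.normal
  let ψ : A →* MulAut S := (MulAut.congr e).toMonoidHom.comp MulAut.conjNormal
  have hψ : ∀ a s, ψ a s = e (MulAut.conjNormal a (e.symm s)) := fun a s => rfl
  let g : A →* Out S := (QuotientGroup.mk' (Inn S)).comp ψ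
  have hker : g.ker = N := by
    ext a
    rw [MonoidHom.mem_ker]
    have h1 : g a = 1 ↔ ψ a ∈ Inn S := QuotientGroup.eq_one_iff (ψ a)
    rw [h1]
    constructor
    · rintro ⟨s, hs⟩
      have h2 : (e.symm s : A)⁻¹ * a ∈ Subgroup.centralizer (N : Set A) := by
        rw [Subgroup.mem_centralizer_iff]
        intro n hn
        have h3 : ψ a (e ⟨n, hn⟩) = s * e ⟨n, hn⟩ * s⁻¹ := by
          rw [← hs]
          rfl
        rw [hψ, e.symm_apply_apply] at h3
        have h4 := congrArg (fun t => ((e.symm t : N) : A)) h3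
        simp only [e.symm_apply_apply, map_mul, map_inv, Subgroup.coe_mul, Subgroup.coe_inv,
          MulAut.conjNormal_apply] at h4
        have h5 : a * n = (e.symm s : A) * n * ((e.symm s : A)⁻¹ * a) := by
          rw [← mul_assoc, ← h4]
          group
        rw [mul_assoc _ a n, h5]
        group
      rw [h.cent, Subgroup.mem_bot, inv_mul_eq_one] at h2
      rw [← h2]
      exact (e.symm s).2
    · intro ha
      refine ⟨e ⟨a, ha⟩, ?_⟩
      ext s
      rw [hψ]
      have h3 : MulAut.conjNormal a (e.symm s) = (⟨a, ha⟩ : N) * e.symm s * (⟨a, ha⟩ : N)⁻¹ := by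
        apply Subtype.ext
        rw [MulAut.conjNormal_apply]
        rfl
      rw [h3, map_mul, map_mul, map_inv, e.apply_symm_apply]
      rfl
  have h6 := Subgroup.card_subgroup_dvd_card g.range
  rw [← Nat.card_congr (QuotientGroup.quotientKerEquivRange g).toEquiv, hker] at h6
  exact h6

/-- The characters of the principal block of `A` that are not trivial on `N`. -/
noncomputable def nb (M : Ideal AlgInt) (N : Subgroup A) : Finset (IrrCharacter A) :=
  haveI : Finite (IrrCharacter A) := Characters.Core.finite_irr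
  (Set.toFinite {χ : IrrCharacter A | χ ∈ principalBlock M A ∧ ¬ N ≤ chKer χ}).toFinset

theorem mem_nb {χ : IrrCharacter A} : χ ∈ nb M N ↔ χ ∈ principalBlock M A ∧ ¬ N ≤ chKer χ := by
  unfold nb
  rw [Set.Finite.mem_toFinset]
  rfl

omit [Finite S] in
/-- The restriction of a character nontrivial on `N` has a nontrivial constituent. -/
theorem exists_constituent [Fintype N] (χ : IrrCharacter A) (h : ¬ N ≤ chKer χ) :
    ∃ θ : IrrCharacter N, NT θ ∧ classInner (fun n : N => (χ : A → ℂ) n) (θ : N → ℂ) ≠ 0 := by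
  classical
  have : Finite (IrrCharacter N) := Characters.Core.finite_irr
  have := Fintype.ofFinite (IrrCharacter N)
  by_contra hcon
  push Not at hcon
  have hch : IsCharacter N (fun n : N => (χ : A → ℂ) n) :=
    Characters.Core.isCharacter_comp N.subtype (Characters.Core.isIrr_isCharacter χ.2)
  obtain ⟨m, hm⟩ := Characters.Core.exists_nat_comb hch
  apply h
  intro n hn
  rw [mem_chKer]
  have h1 : ∀ θ : IrrCharacter N, m θ ≠ 0 → θ = triv N := by
    intro θ hθ
    by_contra hne
    have h2 := hcon θ (nt_of_ne_triv hne)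
    rw [hm, Characters.Core.classInner_sum_nsmul_irr] at h2
    exact hθ (by exact_mod_cast h2)
  have h2 : ∀ x : N, (χ : A → ℂ) x = (m (triv N) : ℂ) := by
    intro x
    have h3 : (χ : A → ℂ) x = (∑ ψ : IrrCharacter N, m ψ • (ψ : N → ℂ)) x := congrFun hm x
    rw [h3, Finset.sum_apply, Finset.sum_eq_single (triv N)]
    · simp [triv]
    · intro θ _ hθ
      have : m θ = 0 := by
        by_contra h4
        exact hθ (h1 θ h4)
      simp [this]
    · intro h4
      exact absurd (Finset.mem_univ _) h4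
  have h3 := h2 ⟨n, hn⟩
  have h4 := h2 1
  simp only [Subgroup.coe_one] at h3 h4
  rw [h3, h4]

/-- Below a character of the principal block of `A`, nontrivial on `N`. -/
theorem below (hM : IsPModular p M) (h : Over S N) {χ : IrrCharacter A} (hχ : χ ∈ nb M N) :
    ∃ θ : IrrCharacter S, InB0 p θ ∧ NT θ ∧ charDegree (θ : S → ℂ) ∣ charDegree (χ : A → ℂ) ∧
      charDegree (χ : A → ℂ) / charDegree (θ : S → ℂ) ∣ Nat.card (Out S) := by
  classical
  have := Fintype.ofFinite A
  have := Fintype.ofFinite N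
  haveI := h.normal
  obtain ⟨e⟩ := h.iso
  rw [mem_nb] at hχ
  obtain ⟨θ, h1, h2⟩ := exists_constituent χ hχ.2
  have h3 := H611.CoverPrincipal.mem_principalBlock_of_over p hM N χ θ h2 hχ.1
  have h4 := H596.charDegree_dvd_of_over N χ.2 θ.2 h2
  refine ⟨tr e.symm θ, (InB0.of_mem hM h3).tr e.symm, h1.tr e.symm, ?_, ?_⟩
  · rw [charDegree_tr]
    exact h4.1
  · rw [charDegree_tr]
    exact h4.2.trans (over_index h)

/-- Above a nontrivial character of the principal block of `S`. -/
theorem above (hM : IsPModular p M) (h : Over S N) (α : IrrCharacter S) (hα : InB0 p α) (nα : NT α) :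
    ∃ χ ∈ nb M N, charDegree (α : S → ℂ) ∣ charDegree (χ : A → ℂ) ∧
      charDegree (χ : A → ℂ) / charDegree (α : S → ℂ) ∣ Nat.card (Out S) := by
  classical
  have := Fintype.ofFinite A
  have := Fintype.ofFinite N
  haveI := h.normal
  obtain ⟨e⟩ := h.iso
  obtain ⟨χ, h1, h2⟩ := H684.CoverCount.exists_over hM N (tr e α) (hα.tr e M hM)
  have h4 := H596.charDegree_dvd_of_over N χ.2 (tr e α).2 h2
  rw [charDegree_tr] at h4
  refine ⟨χ, mem_nb.2 ⟨h1, fun hle => ?_⟩, h4.1, h4.2.trans (over_index h)⟩
  apply h2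
  have h5 : (fun n : N => (χ : A → ℂ) n) = ((χ : A → ℂ) 1) • ((triv N : IrrCharacter N) : N → ℂ) := by
    funext n
    rw [Pi.smul_apply, smul_eq_mul]
    show (χ : A → ℂ) n = (χ : A → ℂ) 1 * 1
    rw [mul_one]
    exact hle n.2
  rw [h5, Characters.Core.classInner_smul_left, Characters.Core.classInner_irr_ne (triv N).2 (tr e α).2,
    mul_zero]
  intro h6
  exact (nα.tr e).ne_triv (Subtype.ext h6.symm)

omit [Fact p.Prime] in
theorem sum_sq_quot (N : Subgroup A) [N.Normal] (s : Finset (IrrCharacter A)) (hs : ∀ χ ∈ s, N ≤ chKer χ) :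
    ∑ χ ∈ s, charDegree (χ : A → ℂ) ^ 2 ≤ N.index := by
  classical
  have : Finite (IrrCharacter (A ⧸ N)) := Characters.Core.finite_irr
  have := Fintype.ofFinite (IrrCharacter (A ⧸ N))
  have h1 : s ⊆ Finset.univ.image (infl N) := by
    intro χ hχ
    obtain ⟨ψ, hψ⟩ := exists_infl N χ (hs χ hχ)
    exact Finset.mem_image.2 ⟨ψ, Finset.mem_univ _, hψ⟩
  refine (Finset.sum_le_sum_of_subset h1).trans ?_
  rw [Finset.sum_image fun a _ b _ hab => infl_injective N hab]
  have h2 := CharDeep.PowerDegrees.sum_sq (G := A ⧸ N)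
  have h3 : ∀ ψ : IrrCharacter (A ⧸ N), charDegree (infl N ψ : A → ℂ) = charDegree (ψ : A ⧸ N → ℂ) :=
    fun ψ => H596.charDegree_comp (QuotientGroup.mk' N) ψ.2
  have h4 : ((∑ ψ : IrrCharacter (A ⧸ N), charDegree (infl N ψ : A → ℂ) ^ 2 : ℕ) : ℂ) = (N.index : ℂ) := by
    rw [Subgroup.index_eq_card, ← h2]
    push_cast
    refine Finset.sum_congr rfl fun ψ _ => ?_
    rw [h3, charDegree_irr]
  exact le_of_eq (by exact_mod_cast h4)

/-- The relation. -/
theorem relation (hM : IsPModular p M) (h : Over S N) :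
    ∃ D : ℕ, 0 < D ∧ D ≤ Nat.card (Out S) ∧ ∀ u : A, p ∣ orderOf u → u ∈ N →
      (D : ℂ) + ∑ χ ∈ nb M N, (charDegree (χ : A → ℂ) : ℂ) * (χ : A → ℂ) u = 0 := by
  classical
  haveI := h.normal
  have : Finite (IrrCharacter A) := Characters.Core.finite_irr
  let s : Finset (IrrCharacter A) :=
    (Set.toFinite {χ : IrrCharacter A | χ ∈ principalBlock M A ∧ N ≤ chKer χ}).toFinset
  have hs : ∀ χ, χ ∈ s ↔ χ ∈ principalBlock M A ∧ N ≤ chKer χ := by
    intro χ
    rw [Set.Finite.mem_toFinset]
    rfl
  refine ⟨∑ χ ∈ s, charDegree (χ : A → ℂ) ^ 2, ?_, ?_, ?_⟩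
  · refine Finset.sum_pos' (fun _ _ => Nat.zero_le _) ⟨triv A, ?_, ?_⟩
    · exact (hs _).2 ⟨triv_mem hM, fun n _ => rfl⟩
    · exact pow_pos (charDegree_pos _) 2
  · exact (sum_sq_quot N s fun χ hχ => ((hs χ).1 hχ).2).trans
      (Nat.le_of_dvd Nat.card_pos (over_index h))
  · intro u hu huN
    have h0 := S0907.result p M hM (principalBlock M A) isPBlock_principal 1 u⁻¹
      (by rw [orderOf_one]; exact (Fact.out : p.Prime).one_lt.ne' ∘ Nat.dvd_one.1) (by rwa [orderOf_inv])
    have hB : (principalBlock M A).Finite := Set.toFinite _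
    rw [finsum_mem_eq_finite_toFinset_sum _ hB] at h0
    have h1 : hB.toFinset = s ∪ nb M N := by
      ext χ
      rw [Set.Finite.mem_toFinset, Finset.mem_union, hs, mem_nb]
      tauto
    have h2 : Disjoint s (nb M N) := by
      rw [Finset.disjoint_left]
      intro χ h3 h4
      exact (mem_nb.1 h4).2 ((hs χ).1 h3).2
    rw [h1, Finset.sum_union h2] at h0
    rw [← h0]
    have hconj : ∀ χ : IrrCharacter A, conj ((χ : A → ℂ) u⁻¹) = (χ : A → ℂ) u := by
      intro χ
      have := Characters.Core.isCharacter_apply_inv (Characters.Core.isIrr_isCharacter χ.2) u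
      rw [this, Complex.conj_conj]
    congr 1
    · push_cast
      refine Finset.sum_congr rfl fun χ hχ => ?_
      have h3 : (χ : A → ℂ) u = (χ : A → ℂ) 1 := ((hs χ).1 hχ).2 huN
      rw [hconj, h3, charDegree_irr, sq]
    · refine Finset.sum_congr rfl fun χ _ => ?_
      rw [hconj, charDegree_irr]

end ovr

end Cfsg.Agent.H589.BD

private theorem dce_8f6aa6a47bdb : _root_.True := by
  try have : _root_.True := by simp only [_root_.Cfsg.Agent.H684.BlockTools.triv.eq_1]
  exact _root_.True.intro
end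

-- part: H589/BD/Ex
section
set_option linter.all false
open scoped Cfsg.Agent.FastGrp

/-!
# S4932: existence of characters in the principal block (helper589)

* `sum_regPart_indFun` : the sum over the `p`-regular elements of an induced function;
* `exists_of_sum`, `exists_small`, `exists_over`;
* `Tame.of_equiv`.
-/

set_option autoImplicit false
set_option linter.unusedSectionVars false
set_option linter.style.haveILetI false

open Cfsg

namespace Cfsg.Agent.H589.BD

open Cfsg.Agent.H686.CharKit Cfsg.Agent.H684.BlockTools Cfsg.Agent.Blocks.Blau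

universe u v

variable {p : ℕ} [Fact p.Prime]

section

variable {G : Type u} [Group G]

omit [Fact p.Prime] in
theorem sum_regPart_indFun [Fintype G] (H : Subgroup G) [Fintype H] (θ : H → ℂ) :
    ∑ g : G, regPart p (indFun H θ) g = (H.index : ℂ) * ∑ h : H, regPart p θ h := by
  classical
  have h1 : ∀ g : G, regPart p (indFun H θ) g =
      (Nat.card H : ℂ)⁻¹ * ∑ x : G, (if p ∣ orderOf (x⁻¹ * g * x) then 0 else extendByZero H θ (x⁻¹ * g * x)) := by
    intro g
    have hord : ∀ x : G, orderOf (x⁻¹ * g * x) = orderOf g := fun x => by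
      have := (MulAut.conj x⁻¹).orderOf_eq g
      rw [← this]
      congr 1
      simp
    by_cases hg : p ∣ orderOf g
    · rw [regPart_of_dvd hg]
      rw [Finset.sum_eq_zero, mul_zero]
      intro x _
      rw [hord, if_pos hg]
    · rw [regPart_of_not_dvd hg, Characters.Core.indFun_apply]
      congr 1
      refine Finset.sum_congr rfl fun x _ => ?_
      rw [hord, if_neg hg]
  have h2 : ∀ x : G, ∑ g : G, (if p ∣ orderOf (x⁻¹ * g * x) then 0 else extendByZero H θ (x⁻¹ * g * x)) =
      ∑ g : G, if p ∣ orderOf g then 0 else extendByZero H θ g := by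
    intro x
    refine Fintype.sum_equiv (MulAut.conj x⁻¹).toEquiv _ _ fun g => ?_
    have h3 : (MulAut.conj x⁻¹).toEquiv g = x⁻¹ * g * x := by simp
    rw [h3]
  have h3 : ∑ g : G, (if p ∣ orderOf g then 0 else extendByZero H θ g) = ∑ h : H, regPart p θ h := by
    symm
    refine Fintype.sum_of_injective (Subtype.val : H → G) Subtype.val_injective _ _ ?_ ?_
    · intro g hg
      rw [Characters.Core.extendByZero_of_notMem H θ (fun h => hg ⟨⟨g, h⟩, rfl⟩), ite_self]
    · intro h
      by_cases hh : p ∣ orderOf h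
      · rw [regPart_of_dvd hh, if_pos (by rwa [Subgroup.orderOf_coe])]
      · rw [regPart_of_not_dvd hh, if_neg (by rwa [Subgroup.orderOf_coe]),
          Characters.Core.extendByZero_of_mem H θ h.2]
  rw [Finset.sum_congr rfl fun g _ => h1 g, ← Finset.mul_sum, Finset.sum_comm,
    Finset.sum_congr rfl fun x _ => h2 x, h3, Finset.sum_const, Finset.card_univ, nsmul_eq_mul,
    ← Nat.card_eq_fintype_card, ← H.card_mul_index]
  have : (Nat.card H : ℂ) ≠ 0 := Characters.Core.card_ne_zero_complex
  push_cast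
  field_simp

omit [Fact p.Prime] in
theorem regPart_sum {ι : Type*} (s : Finset ι) (m : ι → ℕ) (f : ι → G → ℂ) (g : G) :
    regPart p (∑ i ∈ s, m i • f i) g = ∑ i ∈ s, (m i : ℂ) * regPart p (f i) g := by
  by_cases hg : p ∣ orderOf g
  · simp [regPart_of_dvd hg]
  · simp [regPart_of_not_dvd hg]

omit [Fact p.Prime] in
theorem indFun_one [Fintype G] (H : Subgroup G) (θ : H → ℂ) : indFun H θ 1 = (H.index : ℂ) * θ 1 := by
  rw [Characters.Core.indFun_apply]
  have h1 : ∀ x : G, extendByZero H θ (x⁻¹ * 1 * x) = θ 1 := by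
    intro x
    have h2 : x⁻¹ * 1 * x = 1 := by group
    rw [h2]
    exact Characters.Core.extendByZero_of_mem H θ H.one_mem
  rw [Finset.sum_congr rfl fun x _ => h1 x, Finset.sum_const, Finset.card_univ, nsmul_eq_mul,
    ← Nat.card_eq_fintype_card, ← H.card_mul_index]
  have : (Nat.card H : ℂ) ≠ 0 := Characters.Core.card_ne_zero_complex
  push_cast
  field_simp

theorem sum_regPart_triv [Fintype G] :
    ∑ g : G, regPart p ((triv G : IrrCharacter G) : G → ℂ) g = (Nat.card {x : G // ¬ p ∣ orderOf x} : ℂ) := by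
  have := H893.Sd.pair_one_one (G := G) p
  rw [H893.Sd.pair_one] at this
  exact this

/-- A nontrivial character of `B₀` in `1_H^G` if `p ∣ |G : H|`. -/
theorem exists_small [Finite G] (H : Subgroup G) (h : p ∣ H.index) :
    ∃ χ : IrrCharacter G, InB0 p χ ∧ NT χ ∧ charDegree (χ : G → ℂ) < H.index := by
  classical
  have := Fintype.ofFinite G
  have := Fintype.ofFinite H
  have : Finite (IrrCharacter G) := Characters.Core.finite_irr
  have := Fintype.ofFinite (IrrCharacter G)
  let ψ : G → ℂ := indFun H ((triv H : IrrCharacter H) : H → ℂ)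
  have hψ : IsCharacter G ψ :=
    Characters.Brauer.isCharacter_indFun H (Characters.Core.isIrr_isCharacter (triv H).2)
  obtain ⟨m, hm⟩ := Characters.Core.exists_nat_comb hψ
  have hm1 : m (triv G) = 1 := by
    have h1 := Characters.Brauer.classInner_indFun H inferInstance ((triv H : IrrCharacter H) : H → ℂ)
      ((triv G : IrrCharacter G) : G → ℂ) (Characters.Core.isIrr_isClassFunction (triv G).2)
    have h2 : (fun h : H => ((triv G : IrrCharacter G) : G → ℂ) h) = ((triv H : IrrCharacter H) : H → ℂ) := rfl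
    rw [h2, Characters.Core.classInner_irr_self (triv H).2] at h1
    have h3 : classInner ψ ((triv G : IrrCharacter G) : G → ℂ) = 1 := h1
    rw [hm, Characters.Core.classInner_sum_nsmul_irr] at h3
    exact_mod_cast h3
  -- the degree
  have hdeg : ∑ χ : IrrCharacter G, m χ * charDegree (χ : G → ℂ) = H.index := by
    have h1 : ψ 1 = (H.index : ℂ) := by
      have := indFun_one H ((triv H : IrrCharacter H) : H → ℂ)
      rw [show ((triv H : IrrCharacter H) : H → ℂ) 1 = 1 from rfl, mul_one] at this
      exact this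
    rw [hm, Finset.sum_apply] at h1
    have h2 : ((∑ χ : IrrCharacter G, m χ * charDegree (χ : G → ℂ) : ℕ) : ℂ) = (H.index : ℂ) := by
      rw [← h1]
      push_cast
      refine Finset.sum_congr rfl fun χ _ => ?_
      rw [charDegree_irr, Pi.smul_apply, nsmul_eq_mul]
    exact_mod_cast h2
  -- the sum over the regular elements
  have hreg : ∑ g : G, regPart p ψ g = (H.index : ℂ) * (Nat.card {x : H // ¬ p ∣ orderOf x} : ℂ) := by
    have := sum_regPart_indFun (p := p) H ((triv H : IrrCharacter H) : H → ℂ)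
    rw [sum_regPart_triv] at this
    exact this
  by_contra hcon
  push Not at hcon
  have hz : ∀ χ : IrrCharacter G, χ ≠ triv G → (m χ : ℂ) * ∑ g : G, regPart p (χ : G → ℂ) g = 0 := by
    intro χ hχ
    by_contra h1
    have h2 : InB0 p χ := (InB0.iff χ).2 (right_ne_zero_of_mul h1)
    have h3 := hcon χ h2 (nt_of_ne_triv hχ)
    have h4 : m χ ≠ 0 := by exact_mod_cast left_ne_zero_of_mul h1
    have h5 : m (triv G) * charDegree ((triv G : IrrCharacter G) : G → ℂ) + m χ * charDegree (χ : G → ℂ) ≤
        H.index := by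
      rw [← hdeg, ← Finset.sum_pair (f := fun ξ : IrrCharacter G => m ξ * charDegree (ξ : G → ℂ)) hχ.symm]
      exact Finset.sum_le_sum_of_subset (Finset.subset_univ _)
    have h6 : charDegree (χ : G → ℂ) ≤ m χ * charDegree (χ : G → ℂ) :=
      Nat.le_mul_of_pos_left _ (Nat.pos_of_ne_zero h4)
    have h7 : 0 < charDegree ((triv G : IrrCharacter G) : G → ℂ) := charDegree_pos _
    rw [hm1, one_mul] at h5
    omega
  rw [hm, Finset.sum_congr rfl fun g _ => regPart_sum _ _ _ g, Finset.sum_comm] at hreg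
  rw [Finset.sum_congr rfl fun χ _ => (Finset.mul_sum _ _ _).symm,
    Finset.sum_eq_single (triv G) (fun χ _ hχ => hz χ hχ) (fun h => absurd (Finset.mem_univ _) h), hm1,
    Nat.cast_one, one_mul, sum_regPart_triv] at hreg
  have h8 : Nat.card {x : G // ¬ p ∣ orderOf x} = H.index * Nat.card {x : H // ¬ p ∣ orderOf x} := by
    exact_mod_cast hreg
  exact Blocks.RegularCount.not_dvd_card_regular (G := G) (h8 ▸ h.mul_right _)

end

variable {S : Type u} [Group S]

omit [Fact p.Prime] in
theorem Comp.of_equiv {T : Type u} [Group T] (e : S ≃* T) {G : Type u} [Group G] {L Q : Subgroup G}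
    (h : Comp p T L Q) : Comp p S L Q := by
  obtain ⟨f, hf, hk⟩ := h.iso
  exact ⟨h.normL, h.perf, h.normQ, h.le, h.pgrp, h.idx, h.metab, e.symm.toMonoidHom.comp f,
    e.symm.surjective.comp hf, fun x => by
      rw [← hk x]
      exact (map_eq_one_iff e.symm.toMonoidHom e.symm.injective)⟩

omit [Fact p.Prime] in
theorem Tame.of_equiv {T : Type u} [Group T] (e : S ≃* T) (h : Tame p S) : Tame p T := by
  intro G _ _ L Q hc
  exact h G L Q (hc.of_equiv e)

end Cfsg.Agent.H589.BD
end
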